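import Groth.Agent.TwistBCLib.Algebra
import Groth.Agent.EGA2SymLib.TwistQ
import Groth.Agent.GrTildeLib.IsoCrit
import Groth.Agent.KFlatLib.AffinePull

/-! Twists of relative Proj's commute with base change. -/

set_option autoImplicit false
set_option maxHeartbeats 1000000
set_option linter.style.haveILetI false
set_option backward.isDefEq.respectTransparency false
set_option backward.isDefEq.respectTransparency.types false
universe u
open CategoryTheory AlgebraicGeometry TopologicalSpace Opposite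
open scoped HomogeneousIdeal
open GrModLib6 (Aff)
open AmpleLib (res)

noncomputable section

namespace TwistBCLib

variable {Y Y' P P' : Scheme.{u}} {ψ : Y' ⟶ Y} {𝒮 : RelProj.QCGrAlg Y} {𝒮' : RelProj.QCGrAlg Y'}
  {u : RelProj.QGrHom ψ 𝒮 𝒮'}
  (hirr : ∀ c : EGA2SymLib.APair ψ, (𝒮'.deg c.i.1 c.i.2)₊ ≤ ((𝒮.deg c.U.1 c.U.2)₊).map (c.hom u))
  {p : P ⟶ Y}
  {chart : ∀ (U : Y.Opens) (hU : IsAffineOpen U), (((p ⁻¹ᵁ U : P.Opens) : Scheme.{u}) ≅ Proj (𝒮.deg U hU))}
  {p' : P' ⟶ Y'}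
  {chart' : ∀ (U : Y'.Opens) (hU : IsAffineOpen U), (((p' ⁻¹ᵁ U : P'.Opens) : Scheme.{u}) ≅ Proj (𝒮'.deg U hU))}
  {g : P' ⟶ P}
  (hg : ∀ c : EGA2SymLib.APair ψ, RelProj.emb p' chart' c.i.1 c.i.2 ≫ g =
    Proj.map (c.hom u) (hirr c) ≫ RelProj.emb p chart c.U.1 c.U.2)
  (hpo : ∀ c : EGA2SymLib.APair ψ, IsPushout (ψ.appLE c.U.1 c.i.1 c.le) (𝒮.str.app (op c.U.1))
    (𝒮'.str.app (op c.i.1)) (u.appLE c.U.1 c.i.1 c.le))
  {n : ℤ} {L : P.Modules}
  {lam : ∀ (U : Y.Opens) (hU : IsAffineOpen U),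
    L ⟶ (Scheme.Modules.pushforward (RelProj.emb p chart U hU)).obj (GrTwist.twist (𝒮.deg U hU) n)}
  {L' : P'.Modules}
  {lam' : ∀ (U : Y'.Opens) (hU : IsAffineOpen U),
    L' ⟶ (Scheme.Modules.pushforward (RelProj.emb p' chart' U hU)).obj (GrTwist.twist (𝒮'.deg U hU) n)}

omit hirr hg hpo in
theorem appLE_congr_hom {X Z : Scheme.{u}} {f f' : X ⟶ Z} (h : f = f') (U : Z.Opens) (V : X.Opens) (e₁ : V ≤ f ⁻¹ᵁ U)
    (e₂ : V ≤ f' ⁻¹ᵁ U) : f.appLE U V e₁ = f'.appLE U V e₂ := by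
  subst h; rfl

include hg hpo in
theorem bijective_chart (hL : RelProj.IsRelTwist 𝒮 p chart n L lam) (hL' : RelProj.IsRelTwist 𝒮' p' chart' n L' lam')
    (θ : L ⟶ (Scheme.Modules.pushforward g).obj L')
    (hθ : ∀ c : EGA2SymLib.APair ψ,
      θ ≫ (Scheme.Modules.pushforward g).map (lam' c.i.1 c.i.2) = EGA2SymLib.qComap hirr hg lam c)
    (c : EGA2SymLib.APair ψ) {d : ℕ} (hd : 0 < d) {f : 𝒮.presheaf.obj (op c.U.1)}
    (hf : f ∈ 𝒮.deg c.U.1 c.U.2 d) :
    Function.Bijective ((((Scheme.Modules.pullbackPushforwardAdjunction g).homEquiv L L').symm θ).app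
      (RelProj.emb p' chart' c.i.1 c.i.2 ''ᵁ Proj.basicOpen (𝒮'.deg c.i.1 c.i.2) (c.hom u f))) := by
  haveI := GrModLib6.isQCoh_relTwist hL
  set φ := c.hom u
  have hf' : φ f ∈ 𝒮'.deg c.i.1 c.i.2 d := φ.map_mem hf
  set θ' := ((Scheme.Modules.pullbackPushforwardAdjunction g).homEquiv L L').symm θ
  set ι := RelProj.emb p chart c.U.1 c.U.2
  set ι' := RelProj.emb p' chart' c.i.1 c.i.2
  let D₀ := Proj.basicOpen (𝒮.deg c.U.1 c.U.2) f
  let D₀' := Proj.basicOpen (𝒮'.deg c.i.1 c.i.2) (φ f)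
  let D := ι ''ᵁ D₀
  let D' := ι' ''ᵁ D₀'
  have hD : D ≤ p ⁻¹ᵁ c.U.1 :=
    (ι.image_le_opensRange _).trans (MiscFlat6.emb_opensRange (chart := chart) _ _).le
  have hD' : D' ≤ p' ⁻¹ᵁ c.i.1 :=
    (ι'.image_le_opensRange _).trans (MiscFlat6.emb_opensRange (chart := chart') _ _).le
  have hle : D' ≤ g ⁻¹ᵁ D := by
    rintro _ ⟨y, hy, rfl⟩
    show g (ι' y) ∈ D
    rw [← Scheme.Hom.comp_apply, hg c, Scheme.Hom.comp_apply]
    exact ⟨_, hy, rfl⟩
  have hιD : D₀ ≤ ι ⁻¹ᵁ D := (Scheme.Hom.preimage_image_eq ι D₀).ge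
  have hιD' : D₀' ≤ ι' ⁻¹ᵁ D' := (Scheme.Hom.preimage_image_eq ι' D₀').ge
  let N := GrTwist.twist (𝒮.deg c.U.1 c.U.2) n
  let N' := GrTwist.twist (𝒮'.deg c.i.1 c.i.2) n
  let C := Γ(Proj (𝒮.deg c.U.1 c.U.2), D₀)
  let C' := Γ(Proj (𝒮'.deg c.i.1 c.i.2), D₀')
  let T := Γ(KFlatLib.pb g L, D')
  let e : Γ(L, D) →+ Γ(N, D₀) :=
    (N.presheaf.map (homOfLE hιD).op).hom.comp ((lam c.U.1 c.U.2).app D).hom
  let e' : Γ(L', D') →+ Γ(N', D₀') :=
    (N'.presheaf.map (homOfLE hιD').op).hom.comp ((lam' c.i.1 c.i.2).app D').hom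
  have he : Function.Bijective e := by
    have h1 : Function.Bijective (N.presheaf.map (homOfLE hιD).op) := by
      haveI : IsIso (homOfLE hιD).op := by
        rw [show homOfLE hιD = eqToHom (Scheme.Hom.preimage_image_eq ι D₀).symm from Subsingleton.elim _ _]
        infer_instance
      exact ConcreteCategory.bijective_of_isIso _
    exact h1.comp (hL.bijective c.U.1 c.U.2 D hD)
  have he' : Function.Bijective e' := by
    have h1 : Function.Bijective (N'.presheaf.map (homOfLE hιD').op) := by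
      haveI : IsIso (homOfLE hιD').op := by
        rw [show homOfLE hιD' = eqToHom (Scheme.Hom.preimage_image_eq ι' D₀').symm from Subsingleton.elim _ _]
        infer_instance
      exact ConcreteCategory.bijective_of_isIso _
    exact h1.comp (hL'.bijective c.i.1 c.i.2 D' hD')
  let r : Γ(P, D) →+* C := (ι.appLE D D₀ hιD).hom
  let r' : Γ(P', D') →+* C' := (ι'.appLE D' D₀' hιD').hom
  have hr : Function.Bijective r := by
    haveI : IsIso (ι.appLE D D₀ hιD) := by rw [← Scheme.Hom.appIso_hom']; infer_instance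
    exact ConcreteCategory.bijective_of_isIso (ι.appLE D D₀ hιD)
  have hr' : Function.Bijective r' := by
    haveI : IsIso (ι'.appLE D' D₀' hιD') := by rw [← Scheme.Hom.appIso_hom']; infer_instance
    exact ConcreteCategory.bijective_of_isIso (ι'.appLE D' D₀' hιD')
  have hes : ∀ a m, e (a • m) = r a • e m := fun a m => by
    change N.presheaf.map (homOfLE hιD).op ((lam c.U.1 c.U.2).app D (a • m)) = _
    rw [QCohLib.app_smul]
    exact QCohLib.map_smul' N (homOfLE hιD) (ι.app D a) _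
  have hes' : ∀ a m, e' (a • m) = r' a • e' m := fun a m => by
    change N'.presheaf.map (homOfLE hιD').op ((lam' c.i.1 c.i.2).app D' (a • m)) = _
    rw [QCohLib.app_smul]
    exact QCohLib.map_smul' N' (homOfLE hιD') (ι'.app D' a) _
  let m₀ := (Proj.map φ (hirr c)).appLE D₀ D₀' le_rfl
  have hrr : ∀ a, r' ((g.appLE D D' hle).hom a) = m₀.hom (r a) := fun a => by
    change (g.appLE D D' hle ≫ ι'.appLE D' D₀' hιD').hom a = (ι.appLE D D₀ hιD ≫ m₀).hom a
    rw [Scheme.Hom.appLE_comp_appLE, Scheme.Hom.appLE_comp_appLE]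
    exact congrArg (fun χ => χ.hom a) (appLE_congr_hom (hg c) _ _ _ _)
  -- the algebra
  letI := (𝒮.str.app (op c.U.1)).hom.toAlgebra
  letI := (𝒮'.str.app (op c.i.1)).hom.toAlgebra
  letI := (ψ.appLE c.U.1 c.i.1 c.le).hom.toAlgebra
  letI := (u.appLE c.U.1 c.i.1 c.le).hom.toAlgebra
  letI : Algebra Γ(Y, c.U.1) (𝒮'.presheaf.obj (op c.i.1)) :=
    (ψ.appLE c.U.1 c.i.1 c.le ≫ 𝒮'.str.app (op c.i.1)).hom.toAlgebra
  haveI : IsScalarTower Γ(Y, c.U.1) Γ(Y', c.i.1) (𝒮'.presheaf.obj (op c.i.1)) := IsScalarTower.of_algebraMap_eq' rfl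
  haveI : IsScalarTower Γ(Y, c.U.1) (𝒮.presheaf.obj (op c.U.1)) (𝒮'.presheaf.obj (op c.i.1)) :=
    IsScalarTower.of_algebraMap_eq' (congrArg CommRingCat.Hom.hom (hpo c).w)
  haveI := (CommRingCat.isPushout_iff_isPushout (R := Γ(Y, c.U.1)) (S := 𝒮.presheaf.obj (op c.U.1))
    (R' := Γ(Y', c.i.1)) (S' := 𝒮'.presheaf.obj (op c.i.1))).mp (hpo c)
  obtain ⟨v, hv, hvbc⟩ := isBaseChange_twist φ (hirr c) n (R := Γ(Y, c.U.1)) (R' := Γ(Y', c.i.1))
    (fun a => 𝒮.str_mem c.U.1 c.U.2 a) (fun a => 𝒮'.str_mem c.i.1 c.i.2 a)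
    (IsScalarTower.toAlgHom Γ(Y, c.U.1) (𝒮.presheaf.obj (op c.U.1)) (𝒮'.presheaf.obj (op c.i.1))).toLinearMap
    (fun a => rfl) Algebra.IsPushout.out hd hf
  -- the comparison
  let F : T →+ Γ(N', D₀') := e'.comp (θ'.app D').hom
  have hF : ∀ m, F (KFlatLib.puSecLE g L hle m) = v (e m) := fun m => by
    rw [hv]
    have h1 : θ'.app D' (KFlatLib.puSecLE g L hle m) = res L' hle (θ.app D m) := by
      rw [KFlatLib.puSecLE_apply]
      refine (QCohLib.app_map θ' (homOfLE hle) _).trans ?_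
      exact congrArg (L'.presheaf.map (homOfLE hle).op)
        (congrArg (fun χ => χ.app D m) (((Scheme.Modules.pullbackPushforwardAdjunction g).homEquiv_unit _ _ θ').symm.trans
          (Equiv.apply_symm_apply _ _)))
    change e' (θ'.app D' (KFlatLib.puSecLE g L hle m)) = _
    rw [h1]
    refine GrTwistLib.sec_ext fun z => ?_
    have hz1 : z.1 ∈ ι' ⁻¹ᵁ D' := hιD' z.2
    have hz : z.1 ∈ ι' ⁻¹ᵁ (g ⁻¹ᵁ D) := hle hz1
    have hy : ProjectiveSpectrum.comap φ (hirr c) z.1 ∈ ι ⁻¹ᵁ D := hιD z.2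
    refine Eq.trans (b := GrModLib6.cval lam' c.i (res L' hle (θ.app D m)) ⟨z.1, hz1⟩) rfl ?_
    refine (GrModLib6.cval_res c.i hle _ _).trans ?_
    refine (congrArg (fun χ => GrTwistLib.val (χ.app D m) (⟨z.1, hz⟩ :
        (ι' ⁻¹ᵁ (g ⁻¹ᵁ D) : (Proj (𝒮'.deg c.i.1 c.i.2)).Opens))) (hθ c)).trans
      ((EGA2SymLib.qComap_val hirr hg c D m ⟨z.1, hz⟩ hy).trans ?_)
    rfl
  have hFs : ∀ (a : Γ(P', D')) (t : T), F (a • t) = r' a • F t := fun a t => by
    change e' (θ'.app D' (a • t)) = _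
    rw [QCohLib.app_smul, hes']
    rfl
  suffices hFb : Function.Bijective F by
    exact (Function.Bijective.of_comp_iff' he' _).mp hFb
  let re' := RingEquiv.ofBijective r' hr'
  let ee := AddEquiv.ofBijective e he
  let re := RingEquiv.ofBijective r hr
  letI : Algebra C C' := m₀.hom.toAlgebra
  letI : Module C Γ(N', D₀') := Module.compHom _ (algebraMap C C')
  haveI : IsScalarTower C C' Γ(N', D₀') := IsScalarTower.of_algebraMap_smul fun _ _ => rfl
  letI : Module C' T := Module.compHom _ re'.symm.toRingHom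
  letI : Module C T := Module.compHom _ (algebraMap C C')
  haveI : IsScalarTower C C' T := IsScalarTower.of_algebraMap_smul fun _ _ => rfl
  let w : Γ(N, D₀) →ₗ[C] T :=
    { toFun := fun x => KFlatLib.puSecLE g L hle (ee.symm x)
      map_add' := fun a b => by rw [map_add, map_add]
      map_smul' := fun a x => by
        have h1 : ee.symm (a • x) = re.symm a • ee.symm x := ee.injective (by
          rw [ee.apply_symm_apply]
          refine Eq.trans ?_ (hes (re.symm a) (ee.symm x)).symm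
          change a • x = re (re.symm a) • ee (ee.symm x)
          rw [re.apply_symm_apply, ee.apply_symm_apply])
        rw [RingHom.id_apply, h1, KFlatLib.puSecLE_smul]
        refine congrArg (fun b : Γ(P', D') => b • KFlatLib.puSecLE g L hle (ee.symm x)) (re'.injective ?_)
        refine (hrr (re.symm a)).trans ?_
        change m₀.hom (re (re.symm a)) = re' (re'.symm (m₀.hom a))
        rw [re.apply_symm_apply, re'.apply_symm_apply] }
  let G := hvbc.lift w
  have hG : ∀ x, G (v x) = w x := fun x => hvbc.lift_eq w x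
  letI := (g.appLE D D' hle).hom.toAlgebra
  letI : Module Γ(P, D) T := Module.compHom T (g.appLE D D' hle).hom
  haveI : IsScalarTower Γ(P, D) Γ(P', D') T := IsScalarTower.of_algebraMap_smul fun _ _ => rfl
  let l : Γ(L, D) →ₗ[Γ(P, D)] T :=
    { toFun := KFlatLib.puSecLE g L hle, map_add' := map_add _,
      map_smul' := fun a m => KFlatLib.puSecLE_smul g L hle a m }
  have hl : IsBaseChange Γ(P', D') l := KFlatLib.isBaseChange_puSec g L
    ((Proj.isAffineOpen_basicOpen _ _ hf hd).image_of_isOpenImmersion ι)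
    ((Proj.isAffineOpen_basicOpen _ _ hf' hd).image_of_isOpenImmersion ι') hle (fun _ => rfl) l (fun _ => rfl)
  have h1 : ∀ t, G (F t) = t := fun t => by
    induction t using hl.inductionOn with
    | zero => rw [map_zero, map_zero]
    | tmul m =>
      refine (congrArg G (hF m)).trans ((hG _).trans ?_)
      change KFlatLib.puSecLE g L hle (ee.symm (ee m)) = _
      rw [ee.symm_apply_apply]
      rfl
    | smul a t ht =>
      rw [hFs, map_smul, ht]
      change re'.symm (re' a) • t = a • t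
      rw [re'.symm_apply_apply]
    | add a b ha hb => rw [map_add, map_add, ha, hb]
  have h2 : ∀ y, F (G y) = y := fun y => by
    induction y using hvbc.inductionOn with
    | zero => rw [map_zero, map_zero]
    | tmul x =>
      rw [hG]
      refine (hF _).trans (congrArg v ?_)
      exact ee.apply_symm_apply x
    | smul a t ht =>
      rw [map_smul]
      change F (re'.symm a • G t) = _
      rw [hFs, ht]
      change re' (re'.symm a) • t = _
      rw [re'.apply_symm_apply]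
    | add a b ha hb => rw [map_add, map_add, ha, hb]
  exact Function.bijective_iff_has_inverse.mpr ⟨G, h1, h2⟩

include hirr hg hpo in
theorem nonempty_pullback_twist_iso (hP : RelProj.IsRelProj 𝒮 p chart) (hP' : RelProj.IsRelProj 𝒮' p' chart')
    (hL : RelProj.IsRelTwist 𝒮 p chart n L lam) (hL' : RelProj.IsRelTwist 𝒮' p' chart' n L' lam') :
    Nonempty ((Scheme.Modules.pullback g).obj L ≅ L') := by
  obtain ⟨θ, hθ⟩ := EGA2SymLib.exists_qTwistComap hirr hg hP hP' hL hL'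
  let adj := Scheme.Modules.pullbackPushforwardAdjunction g
  let θ' := (adj.homEquiv _ _).symm θ
  haveI := GrModLib6.isQCoh_relTwist hL
  haveI := GrModLib6.isQCoh_relTwist hL'
  haveI : Coh.IsQCoh ((Scheme.Modules.pullback g).obj L) := KFlatLib.isQCoh_pullback g L
  have hsel : ∀ x : P', ∃ (c : EGA2SymLib.APair ψ) (d : ℕ) (f : 𝒮.presheaf.obj (op c.U.1)), 0 < d ∧
      f ∈ 𝒮.deg c.U.1 c.U.2 d ∧
      x ∈ RelProj.emb p' chart' c.i.1 c.i.2 ''ᵁ Proj.basicOpen (𝒮'.deg c.i.1 c.i.2) (c.hom u f) := fun x => by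
    obtain ⟨U, hU, hxU, -⟩ := exists_isAffineOpen_mem_and_subset (x := ψ (p' x)) (U := ⊤) trivial
    obtain ⟨V, hV, hxV, hle⟩ := exists_isAffineOpen_mem_and_subset (x := p' x) (U := ψ ⁻¹ᵁ U) hxU
    let c : EGA2SymLib.APair ψ := ⟨⟨V, hV⟩, ⟨U, hU⟩, fun y hy => hle hy⟩
    obtain ⟨y, hy⟩ := (MiscFlat6.emb_opensRange (chart := chart') V hV).ge hxV
    obtain ⟨d, f, hd, hf, hfy⟩ := GrModLib6.exists_pos_not_mem (𝒮.deg U hU) (Proj.map (c.hom u) (hirr c) y)
    exact ⟨c, d, f, hd, hf, y, hfy, hy⟩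
  choose c d f hd hf hx using hsel
  haveI : IsIso θ' :=
    GrTildeLib.isIso_of_bijective_cover θ'
      (fun x => RelProj.emb p' chart' (c x).i.1 (c x).i.2 ''ᵁ
        Proj.basicOpen (𝒮'.deg (c x).i.1 (c x).i.2) ((c x).hom u (f x)))
      (fun x => (Proj.isAffineOpen_basicOpen _ _ (((c x).hom u).map_mem (hf x)) (hd x)).image_of_isOpenImmersion _)
      (top_le_iff.mp fun x _ => Opens.mem_iSup.mpr ⟨x, hx x⟩)
      fun x => bijective_chart hirr hg hpo hL hL' θ hθ (c x) (hd x) (hf x)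
  exact ⟨asIso θ'⟩

end TwistBCLib
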