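import Groth.Agent.RelProjFPLib.Algebra
import Groth.Agent.GrModLib6.Comap
import Groth.Agent.QCohLib.AffineFinite
import Mathlib.RingTheory.IsTensorProduct

/-! Sections of twists on charts under a change of the base ring. -/

set_option autoImplicit false
set_option maxHeartbeats 1000000
set_option linter.style.haveILetI false
set_option backward.isDefEq.respectTransparency false
set_option backward.isDefEq.respectTransparency.types false
universe u

open CategoryTheory AlgebraicGeometry TopologicalSpace Opposite HomogeneousLocalization DirectSum TensorProduct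
open scoped HomogeneousIdeal

noncomputable section

namespace TwistBCLib

/-- Base change passes to retracts. -/
theorem isBaseChange_retract {R R' Q Q' M M' : Type u} [CommRing R] [CommRing R'] [Algebra R R']
    [AddCommGroup Q] [Module R Q] [AddCommGroup Q'] [Module R' Q'] [Module R Q'] [IsScalarTower R R' Q']
    [AddCommGroup M] [Module R M] [AddCommGroup M'] [Module R' M'] [Module R M'] [IsScalarTower R R' M']
    (q : Q →ₗ[R] Q') (hq : IsBaseChange R' q) (u : M →ₗ[R] M')
    (e : Q →ₗ[R] Q) (p : Q →ₗ[R] M) (e' : Q' →ₗ[R'] Q') (p' : Q' →ₗ[R'] M')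
    (hp : Function.Surjective p) (hp' : Function.Surjective p') (hpe : ∀ x, p (e x) = p x)
    (hker : ∀ x, p' x = 0 → e' x = 0) (hsq : ∀ x, p' (q x) = u (p x)) (hesq : ∀ x, e' (q x) = q (e x)) :
    IsBaseChange R' u := by
  let Tq := q.liftBaseChange R'
  let Tu := u.liftBaseChange R'
  have hsq' : ∀ z, p' (Tq z) = Tu (p.baseChange R' z) := fun z => by
    induction z using TensorProduct.induction_on with
    | zero => simp
    | tmul r x => simp [Tq, Tu, hsq]
    | add a b ha hb => simp only [map_add, ha, hb]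
  have hesq' : ∀ z, e' (Tq z) = Tq (e.baseChange R' z) := fun z => by
    induction z using TensorProduct.induction_on with
    | zero => simp
    | tmul r x => simp [Tq, hesq]
    | add a b ha hb => simp only [map_add, ha, hb]
  have hpe' : ∀ z, p.baseChange R' (e.baseChange R' z) = p.baseChange R' z := fun z => by
    induction z using TensorProduct.induction_on with
    | zero => simp
    | tmul r x => simp [hpe]
    | add a b ha hb => simp only [map_add, ha, hb]
  have hpb : Function.Surjective (p.baseChange R') := LinearMap.lTensor_surjective R' hp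
  have hTq : Function.Bijective Tq := hq
  show Function.Bijective Tu
  refine ⟨(injective_iff_map_eq_zero Tu).mpr fun z hz => ?_, fun y => ?_⟩
  · obtain ⟨w, rfl⟩ := hpb z
    have h0 : e' (Tq w) = 0 := hker _ (by rw [hsq', hz])
    rw [hesq', ← map_zero Tq] at h0
    rw [← hpe', hTq.1 h0, map_zero]
  · obtain ⟨x, rfl⟩ := hp' y
    obtain ⟨w, rfl⟩ := hTq.2 x
    exact ⟨_, (hsq' w).symm⟩

/-- From base change over the small rings to base change over rings which they generate. -/
theorem isBaseChange_of_span {R R' C C' M M' : Type u} [CommRing R] [CommRing R'] [CommRing C] [CommRing C']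
    [Algebra R R'] [Algebra R C] [Algebra R C'] [Algebra R' C'] [Algebra C C'] [IsScalarTower R R' C']
    [IsScalarTower R C C'] [AddCommGroup M] [Module R M] [Module C M] [IsScalarTower R C M]
    [AddCommGroup M'] [Module R M'] [Module R' M'] [Module C M'] [Module C' M'] [IsScalarTower R R' M']
    [IsScalarTower R' C' M'] [IsScalarTower C C' M'] [IsScalarTower R C M']
    (u : M →ₗ[C] M') (hu : IsBaseChange R' (u.restrictScalars R))
    (hspan : Submodule.span R' (Set.range (algebraMap C C')) = ⊤) : IsBaseChange C' u := by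
  let S : AddSubgroup (C' ⊗[C] M) :=
    AddSubgroup.closure {z | ∃ (r : R') (m : M), z = algebraMap R' C' r ⊗ₜ m}
  have hS : ∀ z, z ∈ S := fun z => by
    induction z using TensorProduct.induction_on with
    | zero => exact zero_mem _
    | add a b ha hb => exact add_mem ha hb
    | tmul c m =>
      have hc : c ∈ Submodule.span R' (Set.range (algebraMap C C')) := hspan ▸ Submodule.mem_top
      suffices ∀ (r : R'), (r • c) ⊗ₜ[C] m ∈ S by simpa using this 1
      induction hc using Submodule.span_induction generalizing m with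
      | mem x hx =>
        obtain ⟨a, rfl⟩ := hx
        intro r
        rw [Algebra.smul_def, mul_comm, ← Algebra.smul_def, TensorProduct.smul_tmul]
        exact AddSubgroup.subset_closure ⟨r, a • m, rfl⟩
      | zero => intro r; rw [smul_zero, TensorProduct.zero_tmul]; exact zero_mem _
      | add a b _ _ ha hb => intro r; rw [smul_add, TensorProduct.add_tmul]; exact add_mem (ha m r) (hb m r)
      | smul s a _ ha => intro r; rw [smul_smul]; exact ha m _
  let T := (u.restrictScalars R).liftBaseChange R'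
  let T' := u.liftBaseChange C'
  have hlift : ∀ z, ∃ w, T w = T' z ∧ (w = 0 → z = 0) := by
    let ι : R' ⊗[R] M →+ C' ⊗[C] M := TensorProduct.liftAddHom
      (AddMonoidHom.mk' (fun r => AddMonoidHom.mk' (fun m => algebraMap R' C' r ⊗ₜ[C] m) (TensorProduct.tmul_add _))
        (fun r r' => by ext m; simp [TensorProduct.add_tmul]))
      (fun a r m => by
        show algebraMap R' C' (a • r) ⊗ₜ[C] m = algebraMap R' C' r ⊗ₜ[C] (a • m)
        rw [← algebraMap_smul C a m, ← TensorProduct.smul_tmul, Algebra.smul_def, map_mul,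
          ← IsScalarTower.algebraMap_apply, Algebra.smul_def, ← IsScalarTower.algebraMap_apply])
    intro z
    have hz : z ∈ Set.range ι := by
      induction hS z using AddSubgroup.closure_induction with
      | mem x hx => obtain ⟨r, m, rfl⟩ := hx; exact ⟨r ⊗ₜ m, rfl⟩
      | zero => exact ⟨0, map_zero ι⟩
      | add a b _ _ ha hb =>
        obtain ⟨a', rfl⟩ := ha; obtain ⟨b', rfl⟩ := hb
        exact ⟨a' + b', map_add ι _ _⟩
      | neg a _ ha => obtain ⟨a', rfl⟩ := ha; exact ⟨-a', map_neg ι _⟩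
    obtain ⟨w, rfl⟩ := hz
    refine ⟨w, ?_, fun h => by rw [h, map_zero]⟩
    induction w using TensorProduct.induction_on with
    | zero => simp
    | tmul r m => simp [T, T', ι, algebraMap_smul]
    | add a b ha hb => simp only [map_add, ha, hb]
  show Function.Bijective T'
  refine ⟨(injective_iff_map_eq_zero T').mpr fun z hz => ?_, fun y => ?_⟩
  · obtain ⟨w, hw, hw'⟩ := hlift z
    exact hw' (hu.1 ((hw.trans hz).trans (map_zero T).symm))
  · obtain ⟨w, rfl⟩ := hu.2 y
    induction w using TensorProduct.induction_on with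
    | zero => exact ⟨0, by simp⟩
    | tmul r m => exact ⟨algebraMap R' C' r ⊗ₜ m, by simp [T', algebraMap_smul]⟩
    | add a b ha hb =>
      obtain ⟨a', ha'⟩ := ha; obtain ⟨b', hb'⟩ := hb
      exact ⟨a' + b', by rw [map_add, ha', hb']; exact (map_add ((u.restrictScalars R).liftBaseChange R') _ _).symm⟩

variable {A σ : Type u} [CommRing A] [SetLike σ A] [AddSubgroupClass σ A] {𝒜 : ℕ → σ} [GradedRing 𝒜]
  {B τ : Type u} [CommRing B] [SetLike τ B] [AddSubgroupClass τ B] {ℬ : ℕ → τ} [GradedRing ℬ]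
  (φ : 𝒜 →+*ᵍ ℬ) (hφ : ℬ₊ ≤ (𝒜₊).map φ) (n : ℤ)

open RelProjFPLib

theorem comap_psiA {d : ℕ} (hd : 0 < d) {f : A} (hf : f ∈ 𝒜 d) (a : A) :
    (GrTwist.comap φ hφ n).app (Proj.basicOpen 𝒜 f) (psiA 𝒜 hf n a) =
      psiA ℬ (show φ f ∈ ℬ d from φ.map_mem hf) n (φ a) := by
  induction a using DirectSum.Decomposition.inductionOn 𝒜 with
  | zero =>
    rw [map_zero (psiA 𝒜 hf n), show φ (0 : A) = 0 from map_zero φ.toRingHom, map_zero (psiA ℬ _ n)]
    exact map_zero ((GrTwist.comap φ hφ n).app _).hom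
  | add a b ha hb => rw [map_add, map_add, map_add, map_add, ha, hb]
  | @homogeneous i a =>
    have ha' : φ (a : A) ∈ ℬ i := φ.map_mem a.2
    by_cases hg : Good d n i
    · rw [psiA_of_mem 𝒜 hf n a.2, psiA_of_mem ℬ _ n ha', psiHom, psiHom, dif_pos hg, dif_pos hg]
      refine GrTwistLib.sec_ext fun x => ?_
      refine (congrArg (GrTwist.locMap φ hφ x.1) rfl).trans ((GrTwist.locMap_mk φ hφ x.1 _ _).trans ?_)
      change Localization.mk _ _ = Localization.mk _ _
      refine Localization.mk_eq_mk_iff.mpr (Localization.r_iff_exists.mpr ⟨1, ?_⟩)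
      simp only [OneMemClass.coe_one, one_mul, map_mul, map_pow]
    · rw [psiA_bad 𝒜 hd hf n a.2 hg, psiA_bad ℬ hd _ n ha' hg]
      exact map_zero _

theorem eA_map {d : ℕ} (f : A) (a : A) :
    eA ℬ (f := φ f) (d := d) n (φ a) =
      Ideal.quotientMap _ φ.toRingHom (Ideal.span_le.mpr fun x hx => by
        rw [Set.mem_singleton_iff] at hx
        subst hx
        exact Ideal.subset_span (by simp) : Ideal.span ({f - 1} : Set A) ≤
          (Ideal.span ({φ f - 1} : Set B)).comap φ.toRingHom) (eA 𝒜 (f := f) (d := d) n a) := by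
  induction a using DirectSum.Decomposition.inductionOn 𝒜 with
  | zero => simp
  | add a b ha hb => rw [map_add, map_add, map_add, map_add, ha, hb]
  | @homogeneous i a =>
    have ha' : φ (a : A) ∈ ℬ i := φ.map_mem a.2
    by_cases hg : Good d n i
    · rw [eA_good 𝒜 n a.2 hg, eA_good ℬ n ha' hg]; rfl
    · rw [eA_bad 𝒜 n a.2 hg, eA_bad ℬ n ha' hg, map_zero]

variable {R R' : Type u} [CommRing R] [CommRing R'] [Algebra R R']
  [Algebra R A] [Algebra R B] [Algebra R' B] [IsScalarTower R R' B]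
  (hRA : ∀ r : R, algebraMap R A r ∈ 𝒜 0) (hRB : ∀ r : R', algebraMap R' B r ∈ ℬ 0)
  (φl : A →ₗ[R] B) (hφl : ∀ a, φl a = φ a) (hbase : IsBaseChange R' φl)

/-- Constants on a chart. -/
def rho {A σ : Type u} [CommRing A] [SetLike σ A] [AddSubgroupClass σ A] (𝒜 : ℕ → σ) [GradedRing 𝒜]
    {R : Type u} [CommRing R] [Algebra R A] (hRA : ∀ r : R, algebraMap R A r ∈ 𝒜 0) (f : A) :
    R →+* Γ(Proj 𝒜, Proj.basicOpen 𝒜 f) :=
  ((Proj.awayToSection 𝒜 f).hom.comp (fromZeroRingHom 𝒜 (Submonoid.powers f))).comp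
    { toFun := fun r => (⟨_, hRA r⟩ : 𝒜 0)
      map_one' := Subtype.ext (map_one _)
      map_mul' := fun r s => Subtype.ext (map_mul _ _ _)
      map_zero' := Subtype.ext (map_zero _)
      map_add' := fun r s => Subtype.ext (map_add _ _ _) }

theorem rho_eq {A σ : Type u} [CommRing A] [SetLike σ A] [AddSubgroupClass σ A] (𝒜 : ℕ → σ) [GradedRing 𝒜]
    {R : Type u} [CommRing R] [Algebra R A] (hRA : ∀ r : R, algebraMap R A r ∈ 𝒜 0) {d : ℕ} {f : A}
    (hf : f ∈ 𝒜 d) (r : R) :
    rho 𝒜 hRA f r = Proj.awayToSection 𝒜 f (Away.mk 𝒜 hf 0 (algebraMap R A r) (by rw [zero_smul]; exact hRA r)) := by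
  refine congrArg (Proj.awayToSection 𝒜 f).hom (val_injective _ ?_)
  rw [Away.val_mk]
  change Localization.mk (algebraMap R A r) 1 = _
  congr 1
  exact Subtype.ext (pow_zero f).symm

theorem mk_congr' {A σ : Type u} [CommRing A] [SetLike σ A] [AddSubgroupClass σ A] (𝒜 : ℕ → σ) [GradedRing 𝒜]
    {d : ℕ} {f : A} (hf : f ∈ 𝒜 d) (k : ℕ) {a b : A} (ha : a ∈ 𝒜 (k • d)) (hb : b ∈ 𝒜 (k • d)) (h : a = b) :
    Away.mk 𝒜 hf k a ha = Away.mk 𝒜 hf k b hb := by subst h; rfl

include hφl hbase in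
theorem span_sections {d : ℕ} (hd : 0 < d) {f : A} (hf : f ∈ 𝒜 d)
    (c' : Γ(Proj ℬ, Proj.basicOpen ℬ (φ f))) :
    c' ∈ Submodule.span Γ(Proj ℬ, Proj.basicOpen ℬ (φ f)) ({1} : Set Γ(Proj ℬ, Proj.basicOpen ℬ (φ f))) ∧
    c' ∈ AddSubgroup.closure {z | ∃ (r : R') (c : Γ(Proj 𝒜, Proj.basicOpen 𝒜 f)),
      z = rho ℬ hRB (φ f) r * ((Proj.map φ hφ).appLE (Proj.basicOpen 𝒜 f) (Proj.basicOpen ℬ (φ f)) le_rfl).hom c} := by
  classical
  refine ⟨Submodule.mem_span_singleton.mpr ⟨c', mul_one c'⟩, ?_⟩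
  have hf' : φ f ∈ ℬ d := φ.map_mem hf
  obtain ⟨x, rfl⟩ := (ConcreteCategory.bijective_of_isIso (Proj.basicOpenIsoAway ℬ (φ f) hf' hd).hom).2 c'
  obtain ⟨k, g, hg, rfl⟩ := Away.mk_surjective ℬ hf' x
  set Z := AddSubgroup.closure {z : Γ(Proj ℬ, Proj.basicOpen ℬ (φ f)) | ∃ (r : R') (c : Γ(Proj 𝒜, Proj.basicOpen 𝒜 f)),
    z = rho ℬ hRB (φ f) r * ((Proj.map φ hφ).appLE (Proj.basicOpen 𝒜 f) (Proj.basicOpen ℬ (φ f)) le_rfl).hom c}
  let fr : B →+ Γ(Proj ℬ, Proj.basicOpen ℬ (φ f)) :=
    { toFun := fun b => Proj.awayToSection ℬ (φ f) (Away.mk ℬ hf' k (DirectSum.decompose ℬ b (k • d) : B) (SetLike.coe_mem _))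
      map_zero' := by
        refine (congrArg _ (?_ : _ = (0 : Away ℬ (φ f)))).trans (map_zero (Proj.awayToSection ℬ (φ f)).hom)
        exact val_injective _ (by simp [Away.val_mk, Localization.mk_zero])
      map_add' := fun a b => by
        refine (congrArg _ (?_ : _ = (_ + _ : Away ℬ (φ f)))).trans (map_add (Proj.awayToSection ℬ (φ f)).hom _ _)
        exact val_injective _ (by simp [Away.val_mk, Localization.add_mk_self]) }
  have hfr : (Proj.basicOpenIsoAway ℬ (φ f) hf' hd).hom (Away.mk ℬ hf' k g hg) = fr g := by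
    rw [Proj.basicOpenIsoAway_hom]
    exact congrArg _ (mk_congr' ℬ hf' k _ _ (DirectSum.decompose_of_mem_same ℬ hg).symm)
  refine hfr ▸ ?_
  suffices ∀ (b : B) (r : R'), rho ℬ hRB (φ f) r * fr b ∈ Z by simpa using this g 1
  intro b
  induction b using hbase.inductionOn with
  | zero => intro r; rw [map_zero, mul_zero]; exact zero_mem _
  | add a a' ha ha' => intro r; rw [map_add, mul_add]; exact add_mem (ha r) (ha' r)
  | smul s a ha =>
    intro r
    suffices fr (s • a) = rho ℬ hRB (φ f) s * fr a by rw [this, ← mul_assoc, ← map_mul]; exact ha _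
    rw [rho_eq ℬ hRB hf']
    refine (congrArg (Proj.awayToSection ℬ (φ f)).hom (val_injective _ ?_)).trans
      (map_mul (Proj.awayToSection ℬ (φ f)).hom _ _)
    rw [HomogeneousLocalization.val_mul, Away.val_mk, Away.val_mk, Away.val_mk, Localization.mk_mul]
    congr 1
    · rw [Algebra.smul_def s a, DirectSum.coe_decompose_mul_of_left_mem_of_le ℬ (hRB s) (Nat.zero_le _), Nat.sub_zero]
    · exact Subtype.ext (by simp)
  | tmul a =>
    intro r
    refine AddSubgroup.subset_closure ⟨r, Proj.awayToSection 𝒜 f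
      (Away.mk 𝒜 hf k (DirectSum.decompose 𝒜 a (k • d) : A) (SetLike.coe_mem _)), ?_⟩
    congr 1
    refine Eq.trans ?_ (congr($(Proj.awayToSection_comp_appLE φ hφ hf)
      (Away.mk 𝒜 hf k (DirectSum.decompose 𝒜 a (k • d) : A) (SetLike.coe_mem _)))).symm
    refine congrArg (Proj.awayToSection ℬ (φ f)).hom ?_
    refine Eq.trans (mk_congr' ℬ hf' k _ (φ.map_mem (SetLike.coe_mem _)) ?_) (Away.map_mk φ f hf k _ _).symm
    rw [hφl]
    exact (GrModLib6.decompose_semilinear (ℳ := 𝒜) (𝒩 := ℬ) φ φ.toRingHom.toSemilinearMap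
      (fun _ _ h => φ.map_mem h) a (k • d)).symm

include hφl hbase hRA hRB in
/-- Sections of twists on charts commute with change of the base ring. -/
theorem isBaseChange_twist {d : ℕ} (hd : 0 < d) {f : A} (hf : f ∈ 𝒜 d) :
    letI := ((Proj.map φ hφ).appLE (Proj.basicOpen 𝒜 f) (Proj.basicOpen ℬ (φ f)) le_rfl).hom.toAlgebra
    letI : Module Γ(Proj 𝒜, Proj.basicOpen 𝒜 f) Γ(GrTwist.twist ℬ n, Proj.basicOpen ℬ (φ f)) :=
      Module.compHom _ (algebraMap Γ(Proj 𝒜, Proj.basicOpen 𝒜 f) Γ(Proj ℬ, Proj.basicOpen ℬ (φ f)))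
    haveI : IsScalarTower Γ(Proj 𝒜, Proj.basicOpen 𝒜 f) Γ(Proj ℬ, Proj.basicOpen ℬ (φ f))
        Γ(GrTwist.twist ℬ n, Proj.basicOpen ℬ (φ f)) := IsScalarTower.of_algebraMap_smul fun _ _ => rfl
    ∃ u : Γ(GrTwist.twist 𝒜 n, Proj.basicOpen 𝒜 f) →ₗ[Γ(Proj 𝒜, Proj.basicOpen 𝒜 f)]
        Γ(GrTwist.twist ℬ n, Proj.basicOpen ℬ (φ f)),
      (∀ t, u t = (GrTwist.comap φ hφ n).app (Proj.basicOpen 𝒜 f) t) ∧
        IsBaseChange Γ(Proj ℬ, Proj.basicOpen ℬ (φ f)) u := by
  have hf' : φ f ∈ ℬ d := φ.map_mem hf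
  set C := Γ(Proj 𝒜, Proj.basicOpen 𝒜 f)
  set C' := Γ(Proj ℬ, Proj.basicOpen ℬ (φ f))
  set M := Γ(GrTwist.twist 𝒜 n, Proj.basicOpen 𝒜 f)
  set M' := Γ(GrTwist.twist ℬ n, Proj.basicOpen ℬ (φ f))
  letI iCC : Algebra C C' := ((Proj.map φ hφ).appLE (Proj.basicOpen 𝒜 f) (Proj.basicOpen ℬ (φ f)) le_rfl).hom.toAlgebra
  letI : Module C M' := Module.compHom _ (algebraMap C C')
  haveI : IsScalarTower C C' M' := IsScalarTower.of_algebraMap_smul fun _ _ => rfl
  letI : Algebra R' C' := (rho ℬ hRB (φ f)).toAlgebra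
  letI : Module R' M' := Module.compHom _ (algebraMap R' C')
  haveI : IsScalarTower R' C' M' := IsScalarTower.of_algebraMap_smul fun _ _ => rfl
  letI : Algebra R C := (rho 𝒜 hRA f).toAlgebra
  letI : Module R M := Module.compHom _ (algebraMap R C)
  haveI : IsScalarTower R C M := IsScalarTower.of_algebraMap_smul fun _ _ => rfl
  letI : Algebra R C' := ((rho ℬ hRB (φ f)).comp (algebraMap R R')).toAlgebra
  haveI : IsScalarTower R R' C' := IsScalarTower.of_algebraMap_eq' rfl
  letI : Module R M' := Module.compHom _ (algebraMap R C')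
  haveI : IsScalarTower R R' M' := IsScalarTower.of_algebraMap_smul fun _ _ => rfl
  have hφR : ∀ r : R, φ (algebraMap R A r) = algebraMap R' B (algebraMap R R' r) := fun r => by
    rw [← IsScalarTower.algebraMap_apply R R' B, ← hφl, Algebra.algebraMap_eq_smul_one, map_smul, hφl, map_one,
      ← Algebra.algebraMap_eq_smul_one]
  have hCC : ∀ (k : ℕ) (a : A) (ha : a ∈ 𝒜 (k • d)),
      algebraMap C C' (Proj.awayToSection 𝒜 f (Away.mk 𝒜 hf k a ha)) =
        Proj.awayToSection ℬ (φ f) (Away.mk ℬ hf' k (φ a) (φ.map_mem ha)) := fun k a ha => by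
    refine (congr($(Proj.awayToSection_comp_appLE φ hφ hf) (Away.mk 𝒜 hf k a ha))).trans ?_
    exact congrArg (Proj.awayToSection ℬ (φ f)).hom (Away.map_mk φ f hf k a ha)
  haveI : IsScalarTower R C C' := IsScalarTower.of_algebraMap_eq' (RingHom.ext fun r => by
    change rho ℬ hRB (φ f) (algebraMap R R' r) = algebraMap C C' (rho 𝒜 hRA f r)
    rw [rho_eq ℬ hRB hf', rho_eq 𝒜 hRA hf, hCC]
    exact congrArg (Proj.awayToSection ℬ (φ f)).hom (mk_congr' ℬ hf' 0 _ _ (hφR r).symm))
  haveI : IsScalarTower R C M' := IsScalarTower.of_algebraMap_smul fun r m => by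
    change algebraMap C C' (algebraMap R C r) • m = algebraMap R C' r • m
    rw [← IsScalarTower.algebraMap_apply]
  let u : M →ₗ[C] M' :=
    { toFun := fun t => (GrTwist.comap φ hφ n).app (Proj.basicOpen 𝒜 f) t
      map_add' := fun a b => map_add ((GrTwist.comap φ hφ n).app (Proj.basicOpen 𝒜 f)).hom a b
      map_smul' := fun c t => by
        refine (QCohLib.app_smul (GrTwist.comap φ hφ n) (Proj.basicOpen 𝒜 f) c t).trans ?_
        change @HSMul.hSMul C' M' M' _ ((Proj.map φ hφ).app (Proj.basicOpen 𝒜 f) c)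
            ((GrTwist.comap φ hφ n).app (Proj.basicOpen 𝒜 f) t) =
          @HSMul.hSMul C' M' M' _ (((Proj.map φ hφ).appLE (Proj.basicOpen 𝒜 f) (Proj.basicOpen ℬ (φ f)) le_rfl).hom c)
            ((GrTwist.comap φ hφ n).app (Proj.basicOpen 𝒜 f) t)
        exact congrArg (fun z : C' => @HSMul.hSMul C' M' M' _ z ((GrTwist.comap φ hφ n).app (Proj.basicOpen 𝒜 f) t))
          (ConcreteCategory.congr_hom ((Proj.map φ hφ).app_eq_appLE (U := Proj.basicOpen 𝒜 f)) c) }
  refine ⟨u, fun t => rfl, isBaseChange_of_span (R := R) (R' := R') u ?_ ?_⟩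
  swap
  · refine eq_top_iff.mpr fun c' _ => ?_
    refine AddSubgroup.closure_le (K := (Submodule.span R' (Set.range (algebraMap C C'))).toAddSubgroup) |>.mpr ?_
      (span_sections φ hφ hRB φl hφl hbase hd hf c').2
    rintro _ ⟨r, c, rfl⟩
    exact Submodule.smul_mem _ r (Submodule.subset_span ⟨c, rfl⟩)
  -- the retraction data
  let I := (Ideal.span ({f - 1} : Set A)).toAddSubgroup
  let I' := (Ideal.span ({φ f - 1} : Set B)).toAddSubgroup
  let e0 := QuotientAddGroup.lift I (eA 𝒜 (f := f) (d := d) n) (lift_kills _ (eA_self_mul 𝒜 hd hf n))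
  let p0 := QuotientAddGroup.lift I (psiA 𝒜 hf n) (lift_kills _ (psiA_self_mul 𝒜 hd hf n))
  let e0' := QuotientAddGroup.lift I' (eA ℬ (f := φ f) (d := d) n) (lift_kills _ (eA_self_mul ℬ hd hf' n))
  let p0' := QuotientAddGroup.lift I' (psiA ℬ hf' n) (lift_kills _ (psiA_self_mul ℬ hd hf' n))
  let e : DQ f →ₗ[R] DQ f :=
    { toFun := e0, map_add' := map_add e0
      map_smul' := fun r q => by
        obtain ⟨a, rfl⟩ := Ideal.Quotient.mk_surjective q
        rw [RingHom.id_apply, Algebra.smul_def, Algebra.smul_def, ← Ideal.Quotient.mk_algebraMap, ← map_mul]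
        exact (mul_homog 𝒜 hd hf n (k0 := 0) (by rw [zero_smul]; exact hRA r) a).1 }
  let p : DQ f →ₗ[R] M :=
    { toFun := p0, map_add' := map_add p0
      map_smul' := fun r q => by
        obtain ⟨a, rfl⟩ := Ideal.Quotient.mk_surjective q
        rw [RingHom.id_apply, Algebra.smul_def, ← Ideal.Quotient.mk_algebraMap, ← map_mul]
        refine (mul_homog 𝒜 hd hf n (k0 := 0) (by rw [zero_smul]; exact hRA r) a).2.trans ?_
        rw [← rho_eq 𝒜 hRA hf]
        rfl }
  let e' : DQ (φ f) →ₗ[R'] DQ (φ f) :=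
    { toFun := e0', map_add' := map_add e0'
      map_smul' := fun r q => by
        obtain ⟨a, rfl⟩ := Ideal.Quotient.mk_surjective q
        rw [RingHom.id_apply, Algebra.smul_def, Algebra.smul_def, ← Ideal.Quotient.mk_algebraMap, ← map_mul]
        exact (mul_homog ℬ hd hf' n (k0 := 0) (by rw [zero_smul]; exact hRB r) a).1 }
  let p' : DQ (φ f) →ₗ[R'] M' :=
    { toFun := p0', map_add' := map_add p0'
      map_smul' := fun r q => by
        obtain ⟨a, rfl⟩ := Ideal.Quotient.mk_surjective q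
        rw [RingHom.id_apply, Algebra.smul_def, ← Ideal.Quotient.mk_algebraMap, ← map_mul]
        refine (mul_homog ℬ hd hf' n (k0 := 0) (by rw [zero_smul]; exact hRB r) a).2.trans ?_
        rw [← rho_eq ℬ hRB hf']
        rfl }
  let mA : A →ₗ[R] DQ f := (Ideal.Quotient.mkₐ R _).toLinearMap
  let mB : B →ₗ[R'] DQ (φ f) := (Ideal.Quotient.mkₐ R' _).toLinearMap
  let qF := Ideal.quotientMap (Ideal.span ({φ f - 1} : Set B)) φ.toRingHom
    (show Ideal.span ({f - 1} : Set A) ≤ (Ideal.span ({φ f - 1} : Set B)).comap φ.toRingHom from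
      Ideal.span_le.mpr fun x hx => by
        rw [Set.mem_singleton_iff] at hx
        subst hx
        exact Ideal.subset_span (by simp))
  let q : DQ f →ₗ[R] DQ (φ f) :=
    { toFun := qF, map_add' := map_add qF
      map_smul' := fun r x => by
        obtain ⟨a, rfl⟩ := Ideal.Quotient.mk_surjective x
        change qF (r • mA a) = r • (mB.restrictScalars R) (φ a)
        have h1 : φ (r • a) = r • φ a := by rw [← hφl (r • a), ← hφl a, map_smul]
        rw [← map_smul mA, ← map_smul (mB.restrictScalars R), ← h1]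
        rfl }
  have hq : IsBaseChange R' q := by
    refine IsBaseChange.of_lift_unique q fun W iW iM iM' iT g => ?_
    letI : AddCommGroup W := { Module.addCommMonoidToAddCommGroup R' (M := W) with }
    let g₁ : B →ₗ[R'] W := hbase.lift (g.comp mA)
    have hg₁ : ∀ a, g₁ (φ a) = g (mA a) := fun a => by rw [← hφl]; exact hbase.lift_eq _ a
    have hkill : ∀ b, g₁ (b * φ f) = g₁ b := fun b => by
      induction b using hbase.inductionOn with
      | zero => rw [zero_mul]
      | tmul a =>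
        rw [hφl, ← map_mul, hg₁, hg₁]
        exact congrArg g (by change qm f (a * f) = qm f a; rw [map_mul, qm_self, mul_one])
      | smul s a ha => rw [smul_mul_assoc, map_smul, map_smul, ha]
      | add a a' ha ha' => rw [add_mul, map_add, map_add, ha, ha']
    let J : Submodule R' B := (Ideal.span ({φ f - 1} : Set B)).restrictScalars R'
    let g₂ : DQ (φ f) →ₗ[R'] W :=
      { toFun := QuotientAddGroup.lift I' g₁.toAddMonoidHom (lift_kills (f := φ f) g₁.toAddMonoidHom fun b =>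
          (congrArg g₁ (mul_comm (φ f) b)).trans (hkill b))
        map_add' := map_add _
        map_smul' := fun s x => by
          obtain ⟨b, rfl⟩ := Ideal.Quotient.mk_surjective x
          exact map_smul g₁ s b }
    refine ⟨g₂, LinearMap.ext fun x => ?_, fun g₃ h₃ => LinearMap.ext fun x => ?_⟩
    · obtain ⟨a, rfl⟩ := Ideal.Quotient.mk_surjective x
      exact hg₁ a
    · obtain ⟨b, rfl⟩ := Ideal.Quotient.mk_surjective x
      change g₃ (mB b) = g₁ b
      refine LinearMap.congr_fun (hbase.algHom_ext (g₁ := g₃.comp mB) (g₂ := g₁) fun a => ?_) b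
      rw [hφl, hg₁]
      exact LinearMap.congr_fun h₃ (mA a)
  have hpe : ∀ x, p (e x) = p x := fun x => by
    obtain ⟨a, rfl⟩ := Ideal.Quotient.mk_surjective x
    obtain ⟨k, i, m, hm, hi, ha⟩ := exists_frac_eA 𝒜 hd hf n a
    change p0 (eA 𝒜 (f := f) (d := d) n a) = psiA 𝒜 hf n a
    rw [ha, psiA_eA 𝒜 hd hf n a m ha]
    rfl
  have hsurj : ∀ {A σ : Type u} [CommRing A] [SetLike σ A] [AddSubgroupClass σ A] (𝒜 : ℕ → σ) [GradedRing 𝒜]
      {f : A} (hf : f ∈ 𝒜 d) (t : Γ(GrTwist.twist 𝒜 n, Proj.basicOpen 𝒜 f)), ∃ a, psiA 𝒜 hf n a = t := by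
    intro A σ _ _ _ 𝒜 _ f hf t
    obtain ⟨k, i, m, hm, hi, ht⟩ := GrModLib6.exists_eq_frac hd hf (GrModLib6.toTilde t)
    refine ⟨m, GrTwistLib.sec_ext fun x => ?_⟩
    rw [psiA_frac 𝒜 hd hf n hm hi]
    exact (ht x).symm
  refine isBaseChange_retract q hq (u.restrictScalars R) e p e' p' (fun t => ?_) (fun t => ?_) hpe (fun x hx => ?_)
    (fun x => ?_) (fun x => ?_)
  · obtain ⟨a, rfl⟩ := hsurj 𝒜 hf t
    exact ⟨qm f a, rfl⟩
  · obtain ⟨a, rfl⟩ := hsurj ℬ hf' t
    exact ⟨qm (φ f) a, rfl⟩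
  · obtain ⟨a, rfl⟩ := Ideal.Quotient.mk_surjective x
    obtain ⟨k, i, m, hm, hi, ha⟩ := exists_frac_eA ℬ hd hf' n a
    change eA ℬ (f := φ f) (d := d) n a = 0
    have h0 : psiA ℬ hf' n m = 0 := by rw [← psiA_eA ℬ hd hf' n a m ha]; exact hx
    rw [psiA_frac ℬ hd hf' n hm hi] at h0
    obtain ⟨K, hK⟩ := GrModLib6.exists_pow_smul_eq_zero ℬ ℬ hd hf' hm fun x hx =>
      ⟨⟨(φ f) ^ k, GrModLib6.pow_nin ⟨x, hx⟩ _⟩, congrArg (fun z => GrTwistLib.val z ⟨x, hx⟩) h0⟩
    rw [ha, ← qm_pow_mul (φ f) K m, ← smul_eq_mul, hK, map_zero]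
  · obtain ⟨a, rfl⟩ := Ideal.Quotient.mk_surjective x
    exact (comap_psiA φ hφ n hd hf a).symm
  · obtain ⟨a, rfl⟩ := Ideal.Quotient.mk_surjective x
    exact eA_map φ n f a

end TwistBCLib
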